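import Cfsg.Agent.Lib.TwistTree.Orbits

/-!
Exact orbit sizes from a closed set of double cosets whose orbits are known to be distinct: the
numbers of cosets of `L` leading from one orbit to another balance the sizes of the orbits.
-/

set_option autoImplicit false

namespace CfsgLib.TwistTree

open CfsgLib.CosetEnum CfsgLib.DCoset
open CfsgLib.TwistCoset (Act lettersOK lettersOK_iff newFrom newFrom_spec)

variable {P G : Type*} [Group P] [Group G] {D : TData} {gen0 : ℕ → P} {φ : P →* G}
  {H : Subgroup G} {t : G} {R : TRig D gen0 φ H t}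

namespace TData

/-- point `p` of state `i` is reached from root `r` -/
def ReachAt (D : TData) (M i r p : ℕ) : Prop :=
  r < D.nroots.getD i 0 ∧ ∃ kk k, D.kList M i kk = some k ∧ (∀ c ∈ k, c < D.C.K) ∧
    D.C.run 0 (D.C.revInv (k ++ (D.root i r).g)) = p

/-- put a point in front -/
noncomputable def consPt (e : ℕ × ℕ) : Option (List (ℕ × ℕ)) → Option (List (ℕ × ℕ))
  | some l => some (e :: l)
  | none => none

/-- follow a forest: each point with the root of its tree -/
noncomputable def colFrom (D : TData) (M i : ℕ) : List Leaf → ℕ → ℕ → Option (List (ℕ × ℕ))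
  | [], _, _ => some []
  | .root r :: l, _, _ =>
    if Nat.blt r (D.nroots.getD i 0) then
      strict (D.C.run 0 (D.C.revInv (D.root i r).g)) fun p => consPt (p, r) (colFrom D M i l r (2 ^ p))
    else none
  | .child f s pred :: l, cur, mask => strict mask fun mask =>
    if Nat.blt f M then
      match D.fct f with
      | .stab i' p0 =>
        if Nat.beq i' i && lettersOK D.C p0 && Nat.testBit mask pred then
          strict (D.C.run pred (D.C.revInv (D.sgn s p0))) fun p =>
            consPt (p, cur) (colFrom D M i l cur (Nat.lor mask (2 ^ p)))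
        else none
      | _ => none
    else none

theorem consPt_eq {e : ℕ × ℕ} {o : Option (List (ℕ × ℕ))} {out : List (ℕ × ℕ)}
    (h : consPt e o = some out) : ∃ l, o = some l ∧ out = e :: l := by
  cases o with
  | none => simp [consPt] at h
  | some l => exact ⟨l, rfl, by simpa [consPt] using h.symm⟩

theorem colFrom_spec (R : TRig D gen0 φ H t) {M i : ℕ} :
    ∀ {tree : List Leaf} {cur mask : ℕ} {out : List (ℕ × ℕ)},
      D.colFrom M i tree cur mask = some out → (∀ p, mask.testBit p = true → D.ReachAt M i cur p) →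
        ∀ e ∈ out, D.ReachAt M i e.2 e.1
  | [], cur, mask, out, h, _ => by
    simp only [colFrom, Option.some.injEq] at h
    subst h
    simp
  | .root r :: l, cur, mask, out, h, _ => by
    rw [colFrom, Option.ite_none_right_eq_some, Nat.blt_eq, strict_eq] at h
    obtain ⟨hr, h⟩ := h
    obtain ⟨o, ho, rfl⟩ := consPt_eq h
    have h0 : D.ReachAt M i r (D.C.run 0 (D.C.revInv (D.root i r).g)) :=
      ⟨hr, [], [], rfl, by simp, by simp⟩
    intro e he
    rcases List.mem_cons.1 he with rfl | he
    · exact h0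
    · refine colFrom_spec R ho (fun p hp => ?_) e he
      rw [Nat.testBit_two_pow, decide_eq_true_eq] at hp
      exact hp ▸ h0
  | .child f s pred :: l, cur, mask, out, h, hm => by
    rw [colFrom, strict_eq, Option.ite_none_right_eq_some, Nat.blt_eq] at h
    obtain ⟨hf, h⟩ := h
    cases hfc : D.fct f with
    | edge i' g j hh => simp [hfc] at h
    | stab i' p0 =>
      simp only [hfc, Option.ite_none_right_eq_some, Bool.and_eq_true, lettersOK_iff, strict_eq] at h
      obtain ⟨⟨⟨hi, hlt⟩, hbit⟩, h⟩ := h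
      obtain rfl := Nat.eq_of_beq_eq_true hi
      obtain ⟨o, ho, rfl⟩ := consPt_eq h
      obtain ⟨hr, kk, k, h1, h2, h3⟩ := hm pred hbit
      have hs : ∀ c ∈ D.sgn s p0, c < D.C.K := by
        cases s with
        | false => exact hlt
        | true => exact rev_lt R hlt
      have hnew : D.ReachAt M i' cur (D.C.run pred (D.C.revInv (D.sgn s p0))) := by
        refine ⟨hr, (f, s) :: kk, D.sgn s p0 ++ k, ?_, fun c hc =>
          (List.mem_append.mp hc).elim (hs c) (h2 c), ?_⟩
        · rw [kList, hfc, h1]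
          simp [hf]
        · rw [List.append_assoc, revInv_append, run_append, h3]
      intro e he
      rcases List.mem_cons.1 he with rfl | he
      · exact hnew
      · refine colFrom_spec R ho (fun p hp => ?_) e he
        rw [show ∀ a b : ℕ, Nat.lor a b = a ||| b from fun _ _ => rfl, Nat.testBit_or,
          Bool.or_eq_true, Nat.testBit_two_pow, decide_eq_true_eq] at hp
        rcases hp with hp | hp
        · exact hm p hp
        · exact hp ▸ hnew

/-- the points of a state with their roots -/
noncomputable def colMap (D : TData) (M i : ℕ) (tree : List Leaf) : List (ℕ × ℕ) :=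
  match D.colFrom M i tree 0 0 with
  | some l => l
  | none => []

/-- every point occurs once -/
noncomputable def colOK (D : TData) (M i : ℕ) (tree : List Leaf) : Bool :=
  Nat.beq (D.colMap M i tree).length D.C.N && newFrom ((D.colMap M i tree).map Prod.fst) 0 &&
    (D.colMap M i tree).all fun e => Nat.blt e.1 D.C.N

theorem colMap_reach (R : TRig D gen0 φ H t) {M i : ℕ} {tree : List Leaf} :
    ∀ e ∈ D.colMap M i tree, D.ReachAt M i e.2 e.1 := by
  unfold colMap
  cases h : D.colFrom M i tree 0 0 with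
  | none => simp
  | some l => exact colFrom_spec R h fun p hp => by simp at hp

/-- the state to which a coset of `L` above a root leads -/
noncomputable def col (D : TData) (M i r m : ℕ) : ℕ :=
  match D.tstep M i ((D.root i r).g ++ D.cosL.getD m []) ((D.root i r).ws.getD m ⟨0, [], []⟩) with
  | some (j, _) => j
  | none => D.ns

/-- the cosets of `L` of state `i` leading to state `j` -/
noncomputable def cnt (D : TData) (M i j : ℕ) (cm : List (ℕ × ℕ)) : ℕ :=
  (cm.map fun e => (List.range D.cosL.length).countP fun m => Nat.beq (D.col M i e.2 m) j).sum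

/-- the state to which a coset leads, read off its step alone -/
noncomputable def colQ (D : TData) (i r m : ℕ) : ℕ :=
  match D.fct ((D.root i r).ws.getD m ⟨0, [], []⟩).f with
  | .edge _ _ j _ => j
  | _ => D.ns

theorem col_eq_colQ {D : TData} {M i r m : ℕ} (h : D.rootOK M i r = true) (hm : m < D.cosL.length) :
    D.col M i r m = D.colQ i r m := by
  simp only [rootOK, Bool.and_eq_true, List.all_eq_true, List.mem_range] at h
  have h2 := h.2 m hm
  unfold col
  revert h2
  cases hts : D.tstep M i ((D.root i r).g ++ D.cosL.getD m []) ((D.root i r).ws.getD m ⟨0, [], []⟩) with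
  | none => simp
  | some q =>
    intro _
    unfold tstep at hts
    unfold colQ
    cases hf : D.fct ((D.root i r).ws.getD m ⟨0, [], []⟩).f with
    | stab a b => rw [hf] at hts; simp at hts
    | edge a b c d =>
      cases hk : D.kList M i ((D.root i r).ws.getD m ⟨0, [], []⟩).kk with
      | none => rw [hf, hk] at hts; simp at hts
      | some k =>
        rw [hf, hk] at hts
        simp only [Option.ite_none_right_eq_some, Option.some.injEq] at hts
        rw [← hts.2]

/-- the count of the cosets leading to state `j`, from the counts `w` of the roots -/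
noncomputable def cntOK (D : TData) (i : ℕ) (cm : List (ℕ × ℕ)) (e : ℕ × List ℕ × ℕ) : Bool :=
  ((List.range (D.nroots.getD i 0)).all fun r =>
      Nat.beq ((List.range D.cosL.length).countP fun m => Nat.beq (D.colQ i r m) e.1) (e.2.1.getD r 0)) &&
    Nat.beq (cm.map fun x => e.2.1.getD x.2 0).sum e.2.2

/-- the counts of one state -/
noncomputable def stateOK (D : TData) (M i : ℕ) (tree : List Leaf) (tg : List (ℕ × List ℕ × ℕ)) : Bool :=
  D.colOK M i tree && tg.all (D.cntOK i (D.colMap M i tree))

theorem cnt_eq (R : TRig D gen0 φ H t) {M i : ℕ} (hroots : D.rootsOK M i = true) {tree : List Leaf}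
    {e : ℕ × List ℕ × ℕ} (h : D.cntOK i (D.colMap M i tree) e = true) :
    D.cnt M i e.1 (D.colMap M i tree) = e.2.2 := by
  simp only [cntOK, Bool.and_eq_true, List.all_eq_true, List.mem_range] at h
  simp only [rootsOK, List.all_eq_true, List.mem_range] at hroots
  rw [← Nat.eq_of_beq_eq_true h.2, cnt]
  congr 1
  refine List.map_congr_left fun x hx => ?_
  obtain ⟨hr, -⟩ := colMap_reach R x hx
  rw [← Nat.eq_of_beq_eq_true (h.1 _ hr)]
  exact List.countP_congr fun m hm => by rw [col_eq_colQ (hroots _ hr) (List.mem_range.1 hm)]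

theorem reach_of_colOK (R : TRig D gen0 φ H t) {M i : ℕ} {tree : List Leaf}
    (h : D.colOK M i tree = true) : ∀ p < D.C.N, D.Reach M i p := by
  simp only [colOK, Bool.and_eq_true, List.all_eq_true, Nat.blt_eq] at h
  obtain ⟨⟨hlen, hnew⟩, hlt⟩ := h
  replace hlen := Nat.eq_of_beq_eq_true hlen
  intro p hp
  have hsub : ((D.colMap M i tree).map Prod.fst).toFinset ⊆ Finset.range D.C.N := fun x hx => by
    obtain ⟨e, he, rfl⟩ := List.mem_map.1 (List.mem_toFinset.1 hx)
    exact Finset.mem_range.2 (hlt e he)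
  have he := Finset.eq_of_subset_of_card_le hsub
    (by rw [Finset.card_range, List.toFinset_card_of_nodup (newFrom_spec hnew).1, List.length_map, hlen])
  obtain ⟨e, he', rfl⟩ := List.mem_map.1 (List.mem_toFinset.1 (he ▸ Finset.mem_range.2 hp))
  obtain ⟨hr, hk⟩ := colMap_reach R e he'
  exact ⟨e.2, hr, hk⟩

/-- the subgroup `L` -/
def Lgrp (D : TData) (gen0 : ℕ → P) : Subgroup P :=
  Subgroup.closure {x | ∃ e ∈ D.U, prodW gen0 e.1 = x}

/-- the elements of `P` by which state `i` moves to state `j` under `t` -/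
def moves (R : TRig D gen0 φ H t) (i j : ℕ) : Set P :=
  {x | ∃ y, Same H (wst R i * φ x * t) (wst R j * φ y)}

theorem orb_eq_of_same {i j : ℕ} {y y' : P} (h : Same H (wst R i * φ y) (wst R j * φ y')) :
    orb R i = orb R j := by
  refine (orb_eq_or_disjoint i j).resolve_right fun hd => ?_
  have hx : φ y⁻¹ • pt R i = φ y'⁻¹ • pt R j := by
    rw [pt, pt]
    change ((φ y⁻¹ * (wst R i)⁻¹ : G) : G ⧸ H) = ((φ y'⁻¹ * (wst R j)⁻¹ : G) : G ⧸ H)
    rw [QuotientGroup.eq]
    unfold Same at h
    simpa [mul_assoc] using h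
  exact Set.disjoint_left.1 hd ⟨y⁻¹, rfl⟩ ⟨y'⁻¹, hx.symm⟩

theorem balance [Finite P] (i j : ℕ) :
    Nat.card (moves R i j) * Nat.card (stb R j) = Nat.card (moves R j i) * Nat.card (stb R i) := by
  have hsq : t⁻¹ = φ (prodW gen0 D.sq)⁻¹ * t := by
    rw [map_inv, ← R.t_sq, mul_inv_rev, inv_mul_cancel_right]
  let S : Set (P × P) := {q | Same H (wst R i * φ q.1 * t) (wst R j * φ q.2)}
  have e1 : Nat.card (moves R i j) * Nat.card (stb R j) = Nat.card S := by
    choose y0 hy0 using fun x : moves R i j => x.2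
    let f : moves R i j × stb R j → S := fun p =>
      ⟨(p.1.1, p.2.1 * y0 p.1), by
        refine (hy0 p.1).trans ?_
        have := ((mem_stb j _).1 p.2.2).symm.mul_right (φ (y0 p.1))
        simpa [map_mul, mul_assoc] using this⟩
    have hf : Function.Bijective f := by
      refine ⟨?_, ?_⟩
      · rintro ⟨x, s⟩ ⟨x', s'⟩ e
        have h := congrArg Subtype.val e
        simp only [f, Prod.mk.injEq] at h
        obtain rfl : x = x' := Subtype.ext h.1
        exact Prod.ext rfl (Subtype.ext (mul_right_cancel h.2))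
      · rintro ⟨⟨x, y⟩, hxy⟩
        let X : moves R i j := ⟨x, y, hxy⟩
        refine ⟨(X, ⟨y * (y0 X)⁻¹, (mem_stb j _).2 ?_⟩), Subtype.ext (by simp [f, X])⟩
        have h : Same H (wst R j * φ y) (wst R j * φ (y0 X)) := hxy.symm.trans (hy0 X)
        simpa [map_mul, map_inv, mul_assoc] using h.mul_right (φ (y0 X))⁻¹
    rw [← Nat.card_prod]
    exact Nat.card_congr (Equiv.ofBijective f hf)
  have e2 : Nat.card (moves R j i) * Nat.card (stb R i) = Nat.card S := by
    choose x0 hx0 using fun y : moves R j i => y.2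
    let f : moves R j i × stb R i → S := fun p =>
      ⟨(p.2.1 * (x0 p.1 * (prodW gen0 D.sq)⁻¹), p.1.1), by
        have h1 : Same H (wst R i * φ (x0 p.1 * (prodW gen0 D.sq)⁻¹) * t) (wst R j * φ p.1.1) := by
          have h := ((hx0 p.1).symm).mul_right t⁻¹
          rw [mul_inv_cancel_right, hsq] at h
          simpa [map_mul, mul_assoc] using h
        refine Same.trans ?_ h1
        have h := ((mem_stb i _).1 p.2.2).mul_right (φ (x0 p.1 * (prodW gen0 D.sq)⁻¹) * t)
        simpa [map_mul, mul_assoc] using h⟩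
    have hf : Function.Bijective f := by
      refine ⟨?_, ?_⟩
      · rintro ⟨y, s⟩ ⟨y', s'⟩ e
        have h := congrArg Subtype.val e
        simp only [f, Prod.mk.injEq] at h
        obtain rfl : y = y' := Subtype.ext h.2
        exact Prod.ext rfl (Subtype.ext (mul_right_cancel h.1))
      · rintro ⟨⟨x, y⟩, hxy⟩
        have hxy' : Same H (wst R i * φ x * t) (wst R j * φ y) := hxy
        have hy : Same H (wst R j * φ y * t) (wst R i * φ (x * prodW gen0 D.sq)) := by
          have h := hxy'.symm.mul_right t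
          rw [mul_assoc (wst R i * φ x), R.t_sq] at h
          simpa [map_mul, mul_assoc] using h
        let Y : moves R j i := ⟨y, _, hy⟩
        refine ⟨(Y, ⟨x * (x0 Y * (prodW gen0 D.sq)⁻¹)⁻¹, (mem_stb i _).2 ?_⟩),
          Subtype.ext (by simp [f, Y, mul_assoc])⟩
        have h : Same H (wst R i * φ (x * prodW gen0 D.sq)) (wst R i * φ (x0 Y)) := hy.symm.trans (hx0 Y)
        simpa [map_mul, map_inv, mul_assoc] using h.mul_right (φ (x0 Y))⁻¹
    rw [← Nat.card_prod]
    exact Nat.card_congr (Equiv.ofBijective f hf)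
  rw [e1, e2]

/-- the words of the representatives and of the generators of `L` fix the first point -/
noncomputable def fixOK (D : TData) : Bool :=
  (D.cosL.all fun w => lettersOK D.C w && Nat.beq (D.C.run 0 (D.C.revInv w)) 0) &&
    D.U.all fun e => lettersOK D.C e.1 && Nat.beq (D.C.run 0 e.1) 0 &&
      Nat.beq (D.C.run 0 (D.C.revInv e.1)) 0

theorem uWord_fix (R : TRig D gen0 φ H t) (hf : D.fixOK = true) :
    ∀ uw : List (ℕ × Bool), (∀ c ∈ D.uWord uw, c < D.C.K) ∧ D.C.run 0 (D.C.revInv (D.uWord uw)) = 0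
  | [] => by simp [uWord, Cert.revInv, Cert.run_nil]
  | (k, s) :: uw => by
    obtain ⟨h1, h2⟩ := uWord_fix R hf uw
    simp only [fixOK, Bool.and_eq_true, List.all_eq_true, lettersOK_iff] at hf
    have e : D.uWord ((k, s) :: uw) = D.sgn s (D.U.getD k ([], [])).1 ++ D.uWord uw := List.flatMap_cons
    have hk : (∀ c ∈ D.sgn s (D.U.getD k ([], [])).1, c < D.C.K) ∧
        D.C.run 0 (D.C.revInv (D.sgn s (D.U.getD k ([], [])).1)) = 0 := by
      by_cases h : k < D.U.length
      · rw [List.getD_eq_getElem _ _ h]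
        obtain ⟨⟨hl, hr⟩, hr'⟩ := hf.2 _ (List.getElem_mem h)
        cases s with
        | false => exact ⟨hl, Nat.eq_of_beq_eq_true hr'⟩
        | true =>
          refine ⟨rev_lt R hl, ?_⟩
          have hw := rev_lt R hl
          have hrr := rev_lt R hw
          rw [sgn, if_pos rfl, R.run_cong _ D.U[k].1 hrr hl (by rw [rev_eq R, rev_eq R, inv_inv])]
          exact Nat.eq_of_beq_eq_true hr
      · rw [List.getD_eq_default _ _ (by omega)]
        cases s <;> simp [sgn, Cert.revInv, Cert.run_nil]
    rw [e, revInv_append, run_append, h2]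
    exact ⟨fun c hc => (List.mem_append.1 hc).elim (hk.1 c) (h1 c), hk.2⟩

theorem exists_uWord (R : TRig D gen0 φ H t) {x : P} (hx : x ∈ D.Lgrp gen0) :
    ∃ uw, prodW gen0 (D.uWord uw) = x := by
  have hsgn : ∀ (k : ℕ) (s : Bool) (h : k < D.U.length),
      prodW gen0 (D.uWord [(k, s)]) = if s then (prodW gen0 D.U[k].1)⁻¹ else prodW gen0 D.U[k].1 := by
    intro k s h
    cases s <;> simp [uWord, sgn, List.getD_eq_getElem _ _ h, List.getElem?_eq_getElem h, rev_eq R]
  have happ : ∀ a b, prodW gen0 (D.uWord (a ++ b)) = prodW gen0 (D.uWord a) * prodW gen0 (D.uWord b) :=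
    fun a b => by rw [uWord, List.flatMap_append, prodW_append]; rfl
  induction hx using Subgroup.closure_induction_right with
  | one => exact ⟨[], by simp [uWord]⟩
  | mul_right a _ b hb ih =>
    obtain ⟨uw, rfl⟩ := ih
    obtain ⟨e, he, rfl⟩ := hb
    obtain ⟨k, hk, rfl⟩ := List.getElem_of_mem he
    exact ⟨uw ++ [(k, false)], by rw [happ, hsgn k false hk]; rfl⟩
  | mul_inv_cancel a _ b hb ih =>
    obtain ⟨uw, rfl⟩ := ih
    obtain ⟨e, he, rfl⟩ := hb
    obtain ⟨k, hk, rfl⟩ := List.getElem_of_mem he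
    exact ⟨uw ++ [(k, true)], by rw [happ, hsgn k true hk]; rfl⟩

theorem countP_range (q : ℕ → Bool) (N : ℕ) :
    (Finset.univ.filter fun m : Fin N => q m = true).card = (List.range N).countP q := by
  rw [← List.map_coe_finRange_eq_range, List.countP_map, List.countP_eq_length_filter]
  simp [Finset.card_def, Finset.filter_val, Fin.univ_def]
  rfl

theorem card_moves [Finite P] (R : TRig D gen0 φ H t) (hc : D.cosOK = true) (hfix : D.fixOK = true)
    {M : ℕ} (hb : ∀ f < M, Holds R (D.fct f)) (hroots : ∀ i < D.ns, D.rootsOK M i = true)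
    (hcosd : ∀ m < D.cosL.length, ∀ m' < D.cosL.length,
      (prodW gen0 (D.cosL.getD m []))⁻¹ * prodW gen0 (D.cosL.getD m' []) ∈ D.Lgrp gen0 → m = m')
    (hdist : ∀ i < D.ns, ∀ j < D.ns, orb R i = orb R j → i = j)
    (hrun : ∀ w, (∀ g ∈ w, g < D.C.K) → D.C.run 0 w < D.C.N)
    {i : ℕ} (hi : i < D.ns) {tree : List Leaf} (hcol : D.colOK M i tree = true) {j : ℕ} (hj : j < D.ns) :
    Nat.card (moves R i j) = D.cnt M i j (D.colMap M i tree) * Nat.card (D.Lgrp gen0) := by
  classical
  simp only [colOK, Bool.and_eq_true, List.all_eq_true, Nat.blt_eq] at hcol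
  obtain ⟨⟨hlen, hnew⟩, hlt⟩ := hcol
  replace hlen := Nat.eq_of_beq_eq_true hlen
  set cm := D.colMap M i tree with hcm
  have hnd := (newFrom_spec hnew).1
  have hat : ∀ n : Fin cm.length, ∃ k : List ℕ, (∃ kk, D.kList M i kk = some k) ∧
      (∀ c ∈ k ++ (D.root i cm[n].2).g, c < D.C.K) ∧
      D.C.run 0 (D.C.revInv (k ++ (D.root i cm[n].2).g)) = cm[n].1 ∧ cm[n].2 < D.nroots.getD i 0 := by
    intro n
    obtain ⟨hr, kk, k, h1, h2, h3⟩ := colMap_reach R (M := M) (i := i) (tree := tree) cm[n]
      (List.getElem_mem _)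
    have hro := hroots i hi
    simp only [rootsOK, List.all_eq_true, List.mem_range] at hro
    have hg := hro _ hr
    simp only [rootOK, Bool.and_eq_true, lettersOK_iff] at hg
    exact ⟨k, ⟨kk, h1⟩, fun c hc => (List.mem_append.1 hc).elim (h2 c) (hg.1 c), h3, hr⟩
  choose kw hkw hkl hkp hkr using hat
  have hcosL : ∀ m < D.cosL.length, (∀ c ∈ D.cosL.getD m [], c < D.C.K) ∧
      D.C.run 0 (D.C.revInv (D.cosL.getD m [])) = 0 := by
    intro m hm
    simp only [fixOK, Bool.and_eq_true, List.all_eq_true, lettersOK_iff] at hfix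
    rw [List.getD_eq_getElem _ _ hm]
    obtain ⟨h1, h2⟩ := hfix.1 _ (List.getElem_mem hm)
    exact ⟨h1, Nat.eq_of_beq_eq_true h2⟩
  let Φ : Fin cm.length × Fin D.cosL.length × D.Lgrp gen0 → P := fun q =>
    prodW gen0 (kw q.1 ++ (D.root i cm[q.1].2).g) * prodW gen0 (D.cosL.getD q.2.1 []) * q.2.2.1
  have hword : ∀ q, ∃ w, (∀ c ∈ w, c < D.C.K) ∧ prodW gen0 w = Φ q ∧
      D.C.run 0 (D.C.revInv w) = cm[q.1].1 := by
    rintro ⟨n, m, l⟩
    obtain ⟨uw, hl⟩ := exists_uWord R l.2
    obtain ⟨hu1, hu2⟩ := uWord_fix R hfix uw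
    obtain ⟨hc1, hc2⟩ := hcosL m.1 m.2
    refine ⟨kw n ++ (D.root i cm[n].2).g ++ (D.cosL.getD m.1 [] ++ D.uWord uw), ?_, ?_, ?_⟩
    · intro c hc
      rcases List.mem_append.1 hc with h | h
      · exact hkl n c h
      · exact (List.mem_append.1 h).elim (hc1 c) (hu1 c)
    · simp only [Φ, prodW_append, hl, mul_assoc]
    · rw [revInv_append, run_append, revInv_append (u := D.cosL.getD m.1 []), run_append, hu2, hc2]
      exact hkp n
  have hinj : Function.Injective Φ := by
    rintro ⟨n, m, l⟩ ⟨n', m', l'⟩ e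
    obtain ⟨w, hw, hwe, hwp⟩ := hword (n, m, l)
    obtain ⟨w', hw', hwe', hwp'⟩ := hword (n', m', l')
    have hp : cm[n].1 = cm[n'].1 := by
      rw [← hwp, ← hwp']
      exact R.run_cong _ _ (rev_lt R hw) (rev_lt R hw') (by rw [rev_eq R, rev_eq R, hwe, hwe', e])
    obtain rfl : n = n' := Fin.ext ((hnd.getElem_inj_iff (hi := by simp) (hj := by simp)).1
      (by simpa using hp))
    simp only [Φ, mul_assoc, mul_right_inj] at e
    have hm : (m : ℕ) = m' := hcosd _ m.2 _ m'.2 (by
      have e2 : (prodW gen0 (D.cosL.getD m.1 []))⁻¹ * prodW gen0 (D.cosL.getD m'.1 []) = l.1 * l'.1⁻¹ := by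
        rw [inv_mul_eq_iff_eq_mul, ← mul_assoc, eq_mul_inv_iff_mul_eq, e]
      rw [e2]
      exact mul_mem l.2 (inv_mem l'.2))
    obtain rfl : m = m' := Fin.ext hm
    exact Prod.ext rfl (Prod.ext rfl (Subtype.ext (mul_left_cancel e)))
  have hall : ∀ p < D.C.N, ∃ n : Fin cm.length, cm[n].1 = p := by
    intro p hp
    have hsub : (cm.map Prod.fst).toFinset ⊆ Finset.range D.C.N := fun x hx => by
      obtain ⟨e, he, rfl⟩ := List.mem_map.1 (List.mem_toFinset.1 hx)
      exact Finset.mem_range.2 (hlt e he)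
    have he := Finset.eq_of_subset_of_card_le hsub
      (by rw [Finset.card_range, List.toFinset_card_of_nodup hnd, List.length_map, hlen])
    obtain ⟨e, he', rfl⟩ := List.mem_map.1 (List.mem_toFinset.1 (he ▸ Finset.mem_range.2 hp))
    obtain ⟨n, hn, rfl⟩ := List.getElem_of_mem he'
    exact ⟨⟨n, hn⟩, rfl⟩
  have hsurj : Function.Surjective Φ := by
    intro x
    obtain ⟨w, hw, rfl⟩ := exists_word R x
    obtain ⟨n, hn⟩ := hall _ (hrun _ (rev_lt R hw))
    have hkg := hkl n
    have hlt' : ∀ c ∈ D.C.revInv (kw n ++ (D.root i cm[n].2).g) ++ w, c < D.C.K := fun c hc =>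
      (List.mem_append.mp hc).elim (rev_lt R hkg c) (hw c)
    have h0 : D.C.run 0 (D.C.revInv (kw n ++ (D.root i cm[n].2).g) ++ w) = 0 := by
      rw [run_append, hkp n, hn, ← run_append, R.run_cong _ [] (fun c hc =>
        (List.mem_append.mp hc).elim (rev_lt R hw c) (hw c)) (by simp)
        (by rw [prodW_append, rev_eq R, inv_mul_cancel, prodW_nil])]
      exact Cert.run_nil _ 0
    obtain ⟨m, hm, uw, he⟩ := cos_spec R hc (R.fixZero _ hlt' h0)
    have hmem : prodW gen0 (D.uWord uw) ∈ D.Lgrp gen0 := by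
      clear he
      induction uw with
      | nil => simp [uWord]
      | cons a uw ih =>
        obtain ⟨k, s⟩ := a
        have e : D.uWord ((k, s) :: uw) = D.sgn s (D.U.getD k ([], [])).1 ++ D.uWord uw :=
          List.flatMap_cons
        rw [e, prodW_append]
        refine mul_mem ?_ ih
        by_cases hk : k < D.U.length
        · rw [List.getD_eq_getElem _ _ hk]
          have h : prodW gen0 D.U[k].1 ∈ D.Lgrp gen0 :=
            Subgroup.subset_closure ⟨_, List.getElem_mem hk, rfl⟩
          cases s with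
          | false => exact h
          | true => rw [sgn, if_pos rfl, rev_eq R]; exact inv_mem h
        · rw [List.getD_eq_default _ _ (by omega)]
          cases s <;> simp [sgn, Cert.revInv]
    refine ⟨(n, ⟨m, hm⟩, ⟨_, hmem⟩), ?_⟩
    rw [prodW_append, rev_eq R, inv_mul_eq_iff_eq_mul] at he
    rw [he]
    simp only [Φ, prodW_append, mul_assoc]
  have hmove : ∀ q, Φ q ∈ moves R i j ↔ D.col M i cm[q.1].2 q.2.1 = j := by
    rintro ⟨n, m, l⟩
    have hro := hroots i hi
    simp only [rootsOK, List.all_eq_true, List.mem_range] at hro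
    have hst := hro _ (hkr n)
    simp only [rootOK, Bool.and_eq_true, List.all_eq_true, List.mem_range] at hst
    have hst' := hst.2 m.1 m.2
    obtain ⟨uw, hl⟩ := exists_uWord R l.2
    cases hts : D.tstep M i ((D.root i cm[n].2).g ++ D.cosL.getD m.1 [])
        ((D.root i cm[n].2).ws.getD m.1 ⟨0, [], []⟩) with
    | none => rw [hts] at hst'; simp at hst'
    | some q =>
      obtain ⟨j', ρ⟩ := q
      rw [hts] at hst'
      simp only [Nat.blt_eq] at hst'
      have hcolv : D.col M i cm[n].2 m.1 = j' := by simp only [col, hts]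
      obtain ⟨kk, hk⟩ := hkw n
      have hs : Same H (wst R i * φ (Φ (n, m, l)) * t)
          (wst R j' * φ (prodW gen0 (ρ ++ D.sWord uw))) := by
        have hφ : φ (Φ (n, m, l)) = ev R (kw n) *
            (ev R ((D.root i cm[n].2).g ++ D.cosL.getD m.1 []) * ev R (D.uWord uw)) := by
          simp only [Φ, ev, prodW_append, map_mul, mul_assoc, hl]
        have e : wst R i * φ (Φ (n, m, l)) * t = wst R i * ev R (kw n) *
            (ev R ((D.root i cm[n].2).g ++ D.cosL.getD m.1 []) * t * ev R (D.sWord uw)) := by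
          rw [hφ, mul_assoc (ev R ((D.root i cm[n].2).g ++ _)) t, ← twist_word R uw]
          simp only [mul_assoc]
        rw [e]
        refine ((kList_spec hb hk).mul_right _).trans ?_
        rw [← mul_assoc, ← mul_assoc]
        refine ((tstep_spec hb hts).mul_right _).trans ?_
        rw [show φ (prodW gen0 (ρ ++ D.sWord uw)) = ev R ρ * ev R (D.sWord uw) from ev_append R _ _,
          ← mul_assoc]
        exact Same.refl _
      rw [hcolv]
      constructor
      · rintro ⟨y, hy⟩
        exact (hdist _ hst' _ hj (orb_eq_of_same (hs.symm.trans hy)))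
      · rintro rfl
        exact ⟨_, hs⟩
  let E : Fin cm.length → Fin D.cosL.length → Prop := fun n m => D.col M i cm[n].2 m.1 = j
  let f : (Σ n : Fin cm.length, {m : Fin D.cosL.length // E n m}) × D.Lgrp gen0 → moves R i j := fun q =>
    ⟨Φ (q.1.1, q.1.2.1, q.2), (hmove _).2 q.1.2.2⟩
  have hf : Function.Bijective f := by
    refine ⟨?_, ?_⟩
    · rintro ⟨⟨n, m, hm⟩, l⟩ ⟨⟨n', m', hm'⟩, l'⟩ e
      have h := hinj (congrArg Subtype.val e)
      simp only [Prod.mk.injEq] at h
      obtain ⟨rfl, rfl, rfl⟩ := h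
      rfl
    · rintro ⟨x, hx⟩
      obtain ⟨⟨n, m, l⟩, rfl⟩ := hsurj x
      exact ⟨(⟨n, m, (hmove _).1 hx⟩, l), rfl⟩
  rw [← Nat.card_congr (Equiv.ofBijective f hf), Nat.card_prod]
  congr 1
  rw [Nat.card_eq_fintype_card, Fintype.card_sigma, cnt, ← Fin.sum_univ_fun_getElem]
  refine Finset.sum_congr rfl fun n _ => ?_
  rw [Fintype.card_subtype, ← countP_range]
  simp [E, Nat.beq_eq]

theorem stb_zero (R : TRig D gen0 φ H t) : stb R 0 = ⊤ := by
  refine eq_top_iff.2 fun y _ => (mem_stb 0 y).2 ?_
  rw [wst_zero, one_mul, Same, inv_one, mul_one, R.H_eq]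
  exact ⟨y, rfl⟩

/-- the sizes of two orbits are in the ratio of the counts between them -/
theorem orbit_ratio [Finite P] (R : TRig D gen0 φ H t) {i j a b : ℕ}
    (hi : Nat.card (moves R i j) = a * Nat.card (D.Lgrp gen0))
    (hj : Nat.card (moves R j i) = b * Nat.card (D.Lgrp gen0)) :
    Nat.card (orb R i) * a = Nat.card (orb R j) * b := by
  have h := balance (R := R) i j
  rw [hi, hj] at h
  rw [card_orb, card_orb]
  have hL : 0 < Nat.card (D.Lgrp gen0) := Nat.card_pos
  have hS : 0 < Nat.card (stb R i) * Nat.card (stb R j) := Nat.mul_pos Nat.card_pos Nat.card_pos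
  have ei := (stb R i).index_mul_card
  have ej := (stb R j).index_mul_card
  refine Nat.eq_of_mul_eq_mul_left (Nat.mul_pos hL hS) ?_
  calc Nat.card (D.Lgrp gen0) * (Nat.card (stb R i) * Nat.card (stb R j)) * ((stb R i).index * a)
      = a * Nat.card (D.Lgrp gen0) * Nat.card (stb R j) * ((stb R i).index * Nat.card (stb R i)) := by ring
    _ = b * Nat.card (D.Lgrp gen0) * Nat.card (stb R i) * ((stb R j).index * Nat.card (stb R j)) := by
      rw [ei, ej, h]
    _ = _ := by ring

end TData

end CfsgLib.TwistTree
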