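import Cfsg.Agent.Lib.TwistTree.Index

/-!
The orbits behind a closed set of double cosets: the index of `H` is a sum of sizes of distinct
orbits, each dividing the bound of its state.
-/

set_option autoImplicit false

namespace CfsgLib.TwistTree

open CfsgLib.CosetEnum CfsgLib.DCoset
open CfsgLib.TwistCoset (Act lettersOK lettersOK_iff cOK CLev cSize newFrom newFrom_spec pathWord)

variable {P G : Type*} [Group P] [Group G] {D : TData} {gen0 : ℕ → P} {φ : P →* G}
  {H : Subgroup G} {t : G} {R : TRig D gen0 φ H t}

namespace TData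

/-- the point of a state -/
noncomputable def pt (R : TRig D gen0 φ H t) (i : ℕ) : G ⧸ H := (((wst R i)⁻¹ : G) : G ⧸ H)

/-- the elements of `P` fixing the point of a state -/
noncomputable def stb (R : TRig D gen0 φ H t) (i : ℕ) : Subgroup P :=
  (MulAction.stabilizer G (pt R i)).comap φ

theorem mem_stb (i : ℕ) (y : P) : y ∈ stb R i ↔ Same H (wst R i * φ y) (wst R i) := by
  rw [stb, Subgroup.mem_comap, MulAction.mem_stabilizer_iff, pt]
  change ((φ y * (wst R i)⁻¹ : G) : G ⧸ H) = _ ↔ _
  rw [QuotientGroup.eq, Same]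
  constructor
  · intro h
    have h2 := inv_mem h
    simpa [mul_assoc] using h2
  · intro h
    have h2 := inv_mem h
    simpa [mul_assoc] using h2

/-- the orbit of a state -/
noncomputable def orb (R : TRig D gen0 φ H t) (i : ℕ) : Set (G ⧸ H) :=
  Set.range fun y : P => φ y • pt R i

theorem card_orb (i : ℕ) : Nat.card (orb R i) = (stb R i).index := by
  let F : P ⧸ stb R i → G ⧸ H := fun q => Quotient.liftOn q (fun y => φ y • pt R i) fun a b hab => by
    have hk : a⁻¹ * b ∈ stb R i := QuotientGroup.leftRel_apply.mp hab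
    rw [stb, Subgroup.mem_comap, MulAction.mem_stabilizer_iff, map_mul, map_inv, mul_smul] at hk
    exact (inv_smul_eq_iff.mp hk).symm
  have hF : Function.Injective F := by
    intro p q
    induction p using QuotientGroup.induction_on with
    | _ a =>
      induction q using QuotientGroup.induction_on with
      | _ b =>
        intro h
        change φ a • pt R i = φ b • pt R i at h
        rw [QuotientGroup.eq, stb, Subgroup.mem_comap, MulAction.mem_stabilizer_iff, map_mul,
          map_inv, mul_smul, inv_smul_eq_iff]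
        exact h.symm
  have hr : Set.range F = orb R i := by
    ext x
    constructor
    · rintro ⟨q, rfl⟩
      induction q using QuotientGroup.induction_on with
      | _ a => exact ⟨a, rfl⟩
    · rintro ⟨a, rfl⟩
      exact ⟨(a : P ⧸ stb R i), rfl⟩
  rw [← hr, Nat.card_range_of_injective hF]
  rfl

theorem Kgrp_le {M i : ℕ} (hb : ∀ f < M, Holds R (D.fct f)) : D.Kgrp gen0 M i ≤ stb R i :=
  fun _ hx => (mem_stb i _).mpr (same_K hb hx)

theorem card_orb_dvd {M i : ℕ} (hb : ∀ f < M, Holds R (D.fct f)) :
    Nat.card (orb R i) ∣ (D.Kgrp gen0 M i).index := by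
  rw [card_orb]
  exact Subgroup.index_dvd_of_le (Kgrp_le hb)

theorem orb_eq_or_disjoint (i j : ℕ) : orb R i = orb R j ∨ Disjoint (orb R i) (orb R j) := by
  by_cases h : Disjoint (orb R i) (orb R j)
  · exact Or.inr h
  · left
    obtain ⟨x, ⟨a, ha⟩, ⟨b, hb⟩⟩ := Set.not_disjoint_iff.mp h
    simp only at ha hb
    have hij : φ (b⁻¹ * a) • pt R i = pt R j := by
      rw [map_mul, map_inv, mul_smul, inv_smul_eq_iff, ha, hb]
    ext y
    constructor
    · rintro ⟨c, rfl⟩
      refine ⟨c * (b⁻¹ * a)⁻¹, ?_⟩
      simp only [← hij, ← mul_smul, ← map_mul, inv_mul_cancel_right]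
    · rintro ⟨c, rfl⟩
      refine ⟨c * (b⁻¹ * a), ?_⟩
      simp only [← hij, ← mul_smul, ← map_mul]

open scoped Classical in
/-- the size of an orbit, zero when it occurred before -/
noncomputable def newCard (R : TRig D gen0 φ H t) (i : ℕ) : ℕ :=
  if ∃ j < i, orb R j = orb R i then 0 else Nat.card (orb R i)

theorem newCard_zero : newCard R 0 = Nat.card (orb R 0) := by
  unfold newCard
  rw [if_neg]
  rintro ⟨j, hj, -⟩
  omega

theorem newCard_one (h : orb R 0 ≠ orb R 1) : newCard R 1 = Nat.card (orb R 1) := by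
  unfold newCard
  rw [if_neg]
  rintro ⟨j, hj, e⟩
  obtain rfl : j = 0 := by omega
  exact h e

theorem newCard_dvd {M i : ℕ} (hb : ∀ f < M, Holds R (D.fct f)) :
    newCard R i = 0 ∨ newCard R i ∣ (D.Kgrp gen0 M i).index := by
  unfold newCard
  split
  · exact Or.inl rfl
  · exact Or.inr (card_orb_dvd hb)

theorem index_eq_sum [Finite P] {M : ℕ} (hb : ∀ f < M, Holds R (D.fct f))
    (hs : Function.Surjective (toCoset (M := M) R hb)) :
    H.index = ∑ i ∈ Finset.range D.ns, newCard R i := by
  classical
  haveI : Finite (G ⧸ H) := Finite.of_surjective _ hs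
  have hcov : ∀ n, Nat.card (⋃ i ∈ Finset.range n, orb R i) = ∑ i ∈ Finset.range n, newCard R i := by
    intro n
    induction n with
    | zero => simp
    | succ n ih =>
      rw [Finset.sum_range_succ, ← ih, Finset.range_add_one, Finset.set_biUnion_insert]
      by_cases h : ∃ j < n, orb R j = orb R n
      · obtain ⟨j, hj, e⟩ := h
        have hsub : orb R n ⊆ ⋃ i ∈ Finset.range n, orb R i := by
          rw [← e]
          exact Set.subset_iUnion₂ (s := fun i _ => orb R i) j (Finset.mem_range.mpr hj)
        rw [Set.union_eq_right.mpr hsub, newCard, if_pos ⟨j, hj, e⟩, add_zero]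
      · rw [newCard, if_neg h, Nat.card_coe_set_eq, Nat.card_coe_set_eq, Nat.card_coe_set_eq,
          Set.ncard_union_eq, add_comm]
        rw [Set.disjoint_iUnion₂_right]
        intro j hj
        rcases orb_eq_or_disjoint (R := R) n j with e | e
        · exact absurd ⟨j, Finset.mem_range.mp hj, e.symm⟩ h
        · exact e
  have htop : (⋃ i ∈ Finset.range D.ns, orb R i) = Set.univ := by
    refine Set.eq_univ_of_forall fun q => ?_
    obtain ⟨⟨i, y⟩, rfl⟩ := hs q
    induction y using QuotientGroup.induction_on with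
    | _ y =>
      rw [Set.mem_iUnion₂]
      exact ⟨i, Finset.mem_range.mpr i.2, y, rfl⟩
  rw [← hcov, htop, Nat.card_congr (Equiv.Set.univ (G ⧸ H))]
  rfl

end TData

end CfsgLib.TwistTree
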